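import Groth.Prelude.Def_AlgGrp
import Groth.Agent.GrpScheme.Basic
import Mathlib.GroupTheory.SemidirectProduct
import Mathlib.CategoryTheory.Monoidal.Cartesian.Grp

/-!
# The semidirect product of group schemes
-/

set_option autoImplicit false
set_option backward.isDefEq.respectTransparency false
set_option backward.isDefEq.respectTransparency.types false
set_option linter.style.haveILetI false
universe u

open CategoryTheory MonoidalCategory CartesianMonoidalCategory MonObj GrpObj AlgebraicGeometry Opposite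

noncomputable section

namespace Groth.Agent.GrpdLib.MultAct

open GrpScheme.Basic (smul comp_smul one_smul' mul_smul')

variable {S : Scheme.{u}} {G H : Over S} [GrpObj G] [GrpObj H] (a : AlgGrp.Action G H)

/-- The action is by group automorphisms. -/
class IsGrpAct : Prop where
  smul_mul : ∀ (T : Over S) (g : T ⟶ G) (h h' : T ⟶ H), smul a g (h * h') = smul a g h * smul a g h'

variable [IsGrpAct a]

/-- The action on points, as automorphisms. -/
def autHom (T : Over S) : (T ⟶ G) →* MulAut (T ⟶ H) where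
  toFun g :=
    { toFun := smul a g
      invFun := smul a g⁻¹
      left_inv := fun h => by rw [← mul_smul', inv_mul_cancel, one_smul']
      right_inv := fun h => by rw [← mul_smul', mul_inv_cancel, one_smul']
      map_mul' := IsGrpAct.smul_mul T g }
  map_one' := MulEquiv.ext fun h => one_smul' a h
  map_mul' g g' := MulEquiv.ext fun h => mul_smul' a g g' h

/-- The presheaf of semidirect products. -/
def semiFunctor : (Over S)ᵒᵖ ⥤ GrpCat.{u} where
  obj T := GrpCat.of ((T.unop ⟶ H) ⋊[autHom a T.unop] (T.unop ⟶ G))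
  map v := GrpCat.ofHom (SemidirectProduct.map (MonoidHom.mk' (fun h => v.unop ≫ h) (MonObj.comp_mul v.unop))
    (MonoidHom.mk' (fun g => v.unop ≫ g) (MonObj.comp_mul v.unop))
    (fun g => MonoidHom.ext fun h => comp_smul a v.unop g h))
  map_id T := by
    refine GrpCat.hom_ext (MonoidHom.ext fun p => SemidirectProduct.ext ?_ ?_)
    · show 𝟙 _ ≫ p.left = p.left
      exact Category.id_comp _
    · show 𝟙 _ ≫ p.right = p.right
      exact Category.id_comp _
  map_comp u v := by
    refine GrpCat.hom_ext (MonoidHom.ext fun p => SemidirectProduct.ext ?_ ?_)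
    · show (v.unop ≫ u.unop) ≫ p.left = v.unop ≫ u.unop ≫ p.left
      exact Category.assoc _ _ _
    · show (v.unop ≫ u.unop) ≫ p.right = v.unop ≫ u.unop ≫ p.right
      exact Category.assoc _ _ _

/-- The product represents the semidirect products. -/
def semiRep : (semiFunctor a ⋙ CategoryTheory.forget _).RepresentableBy (H ⊗ G) where
  homEquiv {T} :=
    { toFun := fun z => (⟨z ≫ fst H G, z ≫ snd H G⟩ : (T ⟶ H) ⋊[autHom a T] (T ⟶ G))
      invFun := fun p => lift (p : (T ⟶ H) ⋊[autHom a T] (T ⟶ G)).left (p : (T ⟶ H) ⋊[autHom a T] (T ⟶ G)).right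
      left_inv := fun z => by simp
      right_inv := fun p => by
        refine SemidirectProduct.ext ?_ ?_ <;> simp }
  homEquiv_comp {T T'} v z := SemidirectProduct.ext (Category.assoc _ _ _) (Category.assoc _ _ _)

/-- The semidirect product, as an object (a copy of `H ⊗ G`). -/
def semiObj (_a : AlgGrp.Action G H) : Over S := H ⊗ G

/-- The semidirect product. -/
instance semiGrp : GrpObj (semiObj a) := GrpObj.ofRepresentableBy _ (semiFunctor a) (semiRep a)

/-- A point of the semidirect product. -/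
def semiPt {T : Over S} (h : T ⟶ H) (g : T ⟶ G) : T ⟶ semiObj a := lift h g

/-- The projection to the acting group. -/
def semiSnd : semiObj a ⟶ G := snd H G

/-- The projection to the normal factor. -/
def semiFst : semiObj a ⟶ H := fst H G

theorem semiPt_fst {T : Over S} (h : T ⟶ H) (g : T ⟶ G) : semiPt a h g ≫ semiFst a = h := lift_fst h g

theorem semiPt_snd {T : Over S} (h : T ⟶ H) (g : T ⟶ G) : semiPt a h g ≫ semiSnd a = g := lift_snd h g

theorem semiPt_eta {T : Over S} (z : T ⟶ semiObj a) : semiPt a (z ≫ semiFst a) (z ≫ semiSnd a) = z :=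
  lift_comp_fst_snd (z : T ⟶ H ⊗ G)

theorem semi_hom_ext {T : Over S} {z w : T ⟶ semiObj a} (h₁ : z ≫ semiFst a = w ≫ semiFst a)
    (h₂ : z ≫ semiSnd a = w ≫ semiSnd a) : z = w := by
  rw [← semiPt_eta a z, h₁, h₂, semiPt_eta]

theorem comp_semiPt {T T' : Over S} (v : T' ⟶ T) (h : T ⟶ H) (g : T ⟶ G) :
    v ≫ semiPt a h g = semiPt a (v ≫ h) (v ≫ g) := comp_lift v h g

theorem semi_mu : μ[semiObj a] = semiPt a ((fst (semiObj a) (semiObj a) ≫ semiFst a) *
      smul a (fst (semiObj a) (semiObj a) ≫ semiSnd a) (snd (semiObj a) (semiObj a) ≫ semiFst a))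
      ((fst (semiObj a) (semiObj a) ≫ semiSnd a) * (snd (semiObj a) (semiObj a) ≫ semiSnd a)) := rfl

theorem semi_eta : η[semiObj a] = semiPt a 1 1 := rfl

/-- The product on points. -/
theorem semi_mul {T : Over S} (h h' : T ⟶ H) (g g' : T ⟶ G) :
    semiPt a h g * semiPt a h' g' = semiPt a (h * smul a g h') (g * g') := by
  rw [Hom.mul_def, semi_mu, comp_semiPt, MonObj.comp_mul, MonObj.comp_mul, comp_smul, lift_fst_assoc,
    lift_fst_assoc, lift_snd_assoc, lift_snd_assoc, semiPt_fst, semiPt_fst, semiPt_snd, semiPt_snd]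

theorem semi_one {T : Over S} : (1 : T ⟶ semiObj a) = semiPt a 1 1 := by
  rw [Hom.one_def, semi_eta, comp_semiPt, MonObj.comp_one, MonObj.comp_one]

/-- The inclusion of the normal factor. -/
abbrev inclN : H ⟶ semiObj a := semiPt a (𝟙 H) 1

/-- The inclusion of the acting factor. -/
abbrev inclG : G ⟶ semiObj a := semiPt a 1 (𝟙 G)

theorem comp_inclN {T : Over S} (h : T ⟶ H) : h ≫ inclN a = semiPt a h 1 := by
  rw [comp_semiPt, MonObj.comp_one, Category.comp_id]

theorem comp_inclG {T : Over S} (g : T ⟶ G) : g ≫ inclG a = semiPt a 1 g := by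
  rw [comp_semiPt, MonObj.comp_one, Category.comp_id]

instance isMonHom_inclN : IsMonHom (inclN a) where
  one_hom := by
    rw [comp_inclN, semi_eta,
      show (1 : 𝟙_ _ ⟶ H) = η[H] by rw [Hom.one_def, toUnit_unique (toUnit (𝟙_ _)) (𝟙 _), Category.id_comp]]
  mul_hom := by
    have e : (inclN a ⊗ₘ inclN a) ≫ μ[semiObj a] = (fst H H ≫ inclN a) * (snd H H ≫ inclN a) := by
      rw [Hom.mul_def]
      congr 1
    rw [e, comp_inclN, comp_inclN, comp_inclN, semi_mul, one_smul', _root_.one_mul]
    congr 1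
    rw [Hom.mul_def, lift_fst_snd, Category.id_comp]

theorem semi_inv {T : Over S} (b : T ⟶ H) (c : T ⟶ G) :
    (semiPt a b c)⁻¹ = semiPt a (smul a c⁻¹ b⁻¹) c⁻¹ := by
  refine inv_eq_of_mul_eq_one_right ?_
  rw [semi_mul, ← mul_smul', mul_inv_cancel, one_smul', mul_inv_cancel, semi_one]

theorem isNormal_inclN : AlgGrp.IsNormalHom (inclN a) := by
  intro T z h
  refine ⟨(z * (h ≫ inclN a) * z⁻¹) ≫ semiFst a, ?_⟩
  rw [comp_inclN, comp_inclN]
  refine semi_hom_ext a (by rw [semiPt_fst]) ?_
  rw [semiPt_snd, ← semiPt_eta a z, semi_inv, semi_mul, semi_mul, semiPt_snd, _root_.mul_one, mul_inv_cancel]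

end Groth.Agent.GrpdLib.MultAct
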